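import Groth.Prelude.Def_AlgGrp
import Groth.Agent.HomTriv.Main
import Groth.Agent.HomDesc.BaseChange
import Groth.Agent.FixedSmooth.Props
import Groth.Agent.DSMapLib.Pts
import Groth.Agent.FixedSmooth.Normalizer
import Groth.Agent.CurveRigid.Descent

/-! Families of homomorphisms out of groups of multiplicative type over a connected base. -/

set_option autoImplicit false
set_option backward.isDefEq.respectTransparency false
set_option linter.style.haveILetI false
set_option maxHeartbeats 1000000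
set_option synthInstance.maxHeartbeats 400000
universe u
open CategoryTheory CategoryTheory.Limits CategoryTheory.MonoidalCategory CategoryTheory.CartesianMonoidalCategory
open CategoryTheory.MonObj AlgebraicGeometry
open Groth.Agent.FixedSmooth

noncomputable section

namespace Groth.Agent.MultRigid

variable {k : Type u} [Field k]

/-- Diagonalisable groups are commutative. -/
theorem comm_DS {S : Scheme.{u}} {M : Type} [AddCommGroup M] {X : Over S} (a b : X ⟶ Red.DS S M) :
    a * b = b * a := by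
  refine FixedSmooth.hom_ext_affine _ _ fun C p w => ?_
  obtain ⟨χ, hχ⟩ := (DSMapLib.dsPt M p).surjective (w ≫ a)
  obtain ⟨ψ, hψ⟩ := (DSMapLib.dsPt M p).surjective (w ≫ b)
  rw [MonObj.comp_mul, MonObj.comp_mul, ← hχ, ← hψ, ← map_mul, ← map_mul, _root_.mul_comm χ ψ]

/-- Groups of multiplicative type over a field are commutative. -/
theorem comm_multType {H : Over (Spec (CommRingCat.of k))} [GrpObj H] (hH : SGA3x.IsMultTypeFT H)
    {X : Over (Spec (CommRingCat.of k))} (a b : X ⟶ H) : a * b = b * a := by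
  obtain ⟨S', f, _, hsurj, -, hloc⟩ := hH
  obtain ⟨s', -⟩ := hsurj.1 (default : PrimeSpectrum k)
  obtain ⟨U, hsU, M, _, -, ⟨e⟩⟩ := hloc s'
  let K := U.toScheme.residueField ⟨s', hsU⟩
  let h : U.toScheme ⟶ Spec (CommRingCat.of k) := U.ι ≫ f
  let p : Spec (CommRingCat.of K) ⟶ U.toScheme := U.toScheme.fromSpecResidueField ⟨s', hsU⟩
  let e₁ : Grp.mk (Red.bc (p ≫ h) H) ≅ Grp.mk (Red.DS (Spec (CommRingCat.of K)) M) :=
    (HomDesc.bcGrpIso p h rfl H).symm ≪≫ (Over.pullback p).mapGrp.mapIso e ≪≫
      HomDesc.bcGrpIso p _ (specULiftZIsTerminal.hom_ext _ _) (Red.diag (ULift.{u} ℤ) M)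
  haveI : IsMonHom e₁.hom.hom.hom := e₁.hom.hom.isMonHom_hom
  haveI : Surjective (p ≫ h) := ⟨fun _ => ⟨default, Subsingleton.elim (α := PrimeSpectrum k) _ _⟩⟩
  haveI : Flat (p ≫ h) := inferInstance
  haveI : QuasiCompact (p ≫ h) := inferInstance
  haveI : IsIso e₁.hom.hom.hom :=
    ⟨e₁.inv.hom.hom, congrArg (fun f => f.hom.hom) e₁.hom_inv_id, congrArg (fun f => f.hom.hom) e₁.inv_hom_id⟩
  refine CurveRigid.hom_ext_of_bc (p ≫ h) ?_
  rw [← cancel_mono e₁.hom.hom.hom, Functor.map_mul, Functor.map_mul, MonObj.mul_comp, MonObj.mul_comp]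
  exact comm_DS _ _

/-- The residue field of a rational point is the base field: points over it factor through the rational point. -/
theorem exists_factor_of_rational {G : Over (Spec (CommRingCat.of k))} [IsSeparated G.hom]
    (σ : Spec (CommRingCat.of k) ⟶ G.left) (hσ : σ ≫ G.hom = 𝟙 _) :
    ∃ c, c ≫ σ = G.left.fromSpecResidueField (σ (default : PrimeSpectrum k)) := by
  haveI : IsClosedImmersion σ := isClosedImmersion_of_comp_eq_id G.hom σ hσ
  let z : G.left := σ (default : PrimeSpectrum k)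
  haveI : IsClosedImmersion (pullback.fst (G.left.fromSpecResidueField z) σ) :=
    MorphismProperty.pullback_fst _ _ inferInstance
  haveI : Surjective (pullback.fst (G.left.fromSpecResidueField z) σ) := ⟨fun w => by
    obtain ⟨q, hq, -⟩ := Scheme.Pullback.exists_preimage_pullback (f := G.left.fromSpecResidueField z) (g := σ) w
      (default : PrimeSpectrum k) (Scheme.fromSpecResidueField_apply _ _)
    exact ⟨q, hq⟩⟩
  haveI := isIso_of_isClosedImmersion_of_surjective (pullback.fst (G.left.fromSpecResidueField z) σ)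
  exact ⟨inv (pullback.fst (G.left.fromSpecResidueField z) σ) ≫ pullback.snd _ _,
    by rw [Category.assoc, ← pullback.condition, IsIso.inv_hom_id_assoc]⟩

/-- A connected family of homomorphisms out of a group of multiplicative type which is trivial at one rational point is trivial. -/
theorem triv_of_family {G H N : Over (Spec (CommRingCat.of k))} [GrpObj G] [GrpObj H] [GrpObj N]
    [LocallyOfFiniteType G.hom] [IsSeparated G.hom] [ConnectedSpace G.left] [IsSeparated N.hom]
    (hH : SGA3x.IsMultTypeFT H) (d : G ⊗ H ⟶ N)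
    (hmul : ∀ (T : Over (Spec (CommRingCat.of k))) (g : T ⟶ G) (h h' : T ⟶ H),
      lift g (h * h') ≫ d = (lift g h ≫ d) * (lift g h' ≫ d))
    (hone : ∀ (T : Over (Spec (CommRingCat.of k))) (h : T ⟶ H), lift (1 : T ⟶ G) h ≫ d = 1) : d = 1 := by
  haveI : IsLocallyNoetherian G.left := LocallyOfFiniteType.isLocallyNoetherian G.hom
  let t := G.hom
  let E := Red.bc t H
  let F := Red.bc t N
  let gp : ∀ (Y : Over G.left), (Over.map t).obj Y ⟶ G := fun Y => Over.homMk Y.hom rfl
  let hp : ∀ {Y : Over G.left} (_ : Y ⟶ E), (Over.map t).obj Y ⟶ H := fun {Y} x => (adjEquiv t H Y).symm x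
  let v : E ⟶ F := adjEquiv t N E (lift (gp E) (hp (𝟙 E)) ≫ d)
  have hhp : ∀ {Y : Over G.left} (x : Y ⟶ E), (Over.map t).map x ≫ hp (𝟙 E) = hp x := fun {Y} x => by
    apply (adjEquiv t H Y).injective
    rw [adjEquiv_nat, MulEquiv.apply_symm_apply, MulEquiv.apply_symm_apply, Category.comp_id]
  have hgp : ∀ {Y : Over G.left} (x : Y ⟶ E), (Over.map t).map x ≫ gp E = gp Y := fun {Y} x =>
    Over.OverMorphism.ext (Over.w x)
  have hv : ∀ {Y : Over G.left} (x : Y ⟶ E), x ≫ v = adjEquiv t N Y (lift (gp Y) (hp x) ≫ d) := fun {Y} x => by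
    rw [← adjEquiv_nat]
    congr 1
    rw [← Category.assoc, comp_lift, hhp, hgp]
  have hvmul : ∀ {Y : Over G.left} (x x' : Y ⟶ E), (x * x') ≫ v = (x ≫ v) * (x' ≫ v) := fun {Y} x x' => by
    rw [hv, hv, hv, ← map_mul]
    congr 1
    simp only [hp, map_mul]
    exact hmul _ _ _ _
  haveI : IsMonHom v := by
    have h1 : (1 : 𝟙_ (Over G.left) ⟶ E) ≫ v = 1 := by
      have := hvmul (1 : 𝟙_ (Over G.left) ⟶ E) 1
      rw [_root_.one_mul] at this
      exact left_eq_mul.mp this
    refine ⟨?_, ?_⟩
    · rw [Hom.one_def, toUnit_unique (toUnit (𝟙_ _)) (𝟙 _), Category.id_comp] at h1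
      refine h1.trans ?_
      rw [Hom.one_def, toUnit_unique (toUnit (𝟙_ _)) (𝟙 _), Category.id_comp]
    · rw [MonObj.mul_eq_mul, hvmul, MonObj.mul_eq_mul, MonObj.comp_mul, tensorHom_fst, tensorHom_snd]
  haveI : IsSeparated F.hom := inferInstanceAs (IsSeparated (pullback.snd N.hom t))
  obtain ⟨U, hUc, hUiff, hU'⟩ := HomTriv.exists_clopen (HomDesc.isMultTypeFT_bc t hH) (Or.inl inferInstance) v
  let s₀ : G.left := η[G].left (default : PrimeSpectrum k)
  have hs₀ : s₀ ∈ U := by
    rw [hUiff]
    intro Y q x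
    rw [hv]
    refine Eq.trans (congrArg (adjEquiv t N Y) ?_) (map_one _)
    obtain ⟨c, hc⟩ := exists_factor_of_rational η[G].left (Over.w η[G])
    have hg : gp Y = 1 := by
      have h3 : Y.hom = (q.left ≫ c) ≫ η[G].left := by
        rw [Category.assoc]
        refine (Over.w q).symm.trans (congrArg (q.left ≫ ·) ?_)
        exact hc.symm
      rw [Hom.one_def]
      apply Over.OverMorphism.ext
      show Y.hom = (toUnit ((Over.map t).obj Y)).left ≫ η[G].left
      rw [h3]
      congr 1
      show q.left ≫ c = Y.hom ≫ G.hom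
      conv_rhs => rw [h3, Category.assoc, Over.w η[G]]
      exact (Category.comp_id _).symm
    rw [hg]
    exact hone _ _
  have hUtop : U = ⊤ := TopologicalSpace.Opens.ext (IsClopen.eq_univ ⟨hUc, U.isOpen⟩ ⟨s₀, hs₀⟩)
  have hv1 : v = 1 := by
    subst hUtop
    haveI : IsIso (⊤ : G.left.Opens).ι := inferInstanceAs (IsIso G.left.topIso.hom)
    refine CurveRigid.hom_ext_of_bc (⊤ : G.left.Opens).ι ?_
    rw [(HomTriv.triv_iff_map v _).1 hU', Functor.map_one]
  let Y : Over G.left := Over.mk (fst G H).left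
  let io : (Over.map t).obj Y ≅ G ⊗ H := Over.isoMk (Iso.refl _) (by
    show 𝟙 _ ≫ (G ⊗ H).hom = (fst G H).left ≫ G.hom
    rw [Category.id_comp, Over.w (fst G H)])
  have h2 := hv (adjEquiv t H Y (io.hom ≫ snd G H))
  rw [hv1, MonObj.comp_one] at h2
  have h3 := (adjEquiv t N Y).injective ((map_one _).trans h2)
  simp only [hp, MulEquiv.symm_apply_apply] at h3
  have hg : gp Y = io.hom ≫ fst G H := Over.OverMorphism.ext (Category.id_comp _).symm
  rw [hg, ← comp_lift, lift_fst_snd, Category.comp_id] at h3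
  rw [← cancel_epi io.hom, ← h3, MonObj.comp_one]

end Groth.Agent.MultRigid
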